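import Groth.Agent.ShStabLib.Simple
import Groth.Agent.ShStabLib.Core
import Groth.Agent.ParaFLib.Stalk
import Groth.Agent.DevLib.Power
import Groth.Prelude.Def_RefHull
/-!
Reflexive slope-stable modules on integral varieties are simple.
-/

set_option autoImplicit false
set_option backward.isDefEq.respectTransparency false
set_option linter.style.haveILetI false

universe u

open CategoryTheory CategoryTheory.Limits AlgebraicGeometry Polynomial TopologicalSpace Opposite
open Groth.Agent.DevLib Groth.Agent.QCohLib Groth.Agent.HilbLib StabCat Groth.Agent.PullbackMod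

noncomputable section

namespace Groth.Agent.MuSimpleLib

open ShStabLib

variable {X : Scheme.{u}} [IsIntegral X]

theorem isTF_structureModule : IsTF (genericPoint X) (Coh.structureModule X) := fun V s hs =>
  ParaFLib.eq_zero_of_germ_generic ParaFLib.isInvertible_structureModule s fun h => hs h

theorem isTF_homSh {F G : X.Modules} (hG : IsTF (genericPoint X) G) :
    IsTF (genericPoint X) (RefHull.homSh F G) := by
  intro V f hf
  refine Subtype.ext (funext fun x => LinearMap.ext fun v => ?_)
  obtain ⟨W₀, hxW₀, m, rfl⟩ := TopCat.Presheaf.exists_germ_eq F.presheaf v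
  obtain ⟨W, hxW, j, n, hn⟩ := RefHull.isLocSect_of_mem f (W₀ ⊓ V) (homOfLE inf_le_right)
    (F.presheaf.map (homOfLE inf_le_left).op m) ⟨x.1, hxW₀, x.2⟩
  have hηW : genericPoint X ∈ W :=
    ((genericPoint_spec X).mem_open_set_iff W.2).2 ⟨x.1, trivial, hxW⟩
  have hηV : genericPoint X ∈ V := (j.le hηW).2
  have h0 : f.1 ⟨genericPoint X, hηV⟩ = 0 := by
    have h1 := congrArg (RefHull.evalStalk F G (genericPoint X)) (hf hηV)
    rwa [RefHull.evalStalk_germ, map_zero] at h1
  have hn0 : n = 0 := hG W n fun hx => by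
    rw [← hn ⟨genericPoint X, hx⟩]
    exact (LinearMap.congr_fun h0 _).trans (LinearMap.zero_apply _)
  have e := hn ⟨x.1, hxW⟩
  rw [TopCat.Presheaf.germ_res_apply, hn0, map_zero] at e
  exact e

theorem isTF_of_isReflexive {F : X.Modules} (h : RefHull.IsReflexive F) : IsTF (genericPoint X) F := by
  haveI : IsIso (RefHull.bidualMap F) := h
  intro V s hs
  refine eq_zero_of_forall_germ s fun y hy => (mono_iff_stalk (RefHull.bidualMap F)).1 inferInstance y ?_
  have h0 : (RefHull.bidualMap F).app V s = 0 := isTF_homSh isTF_structureModule V _ fun hx => by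
    rw [← stalkLin_germ, hs hx, map_zero]
  rw [stalkLin_germ, h0, map_zero, map_zero]

theorem isPure_of_isTF [IsLocallyNoetherian X] {E : X.Modules} {n : ℕ}
    (hn : topologicalKrullDim X = (n : WithBot ℕ∞)) (hE : IsTF (genericPoint X) E) : ShStab.IsPure X E n := by
  intro F ι hι hF h0
  haveI := hι
  have hη : genericPoint X ∈ CohB1.support F := fun hs => h0 <|
    isZero_of_support_empty (Set.eq_empty_of_forall_notMem fun y hy => hy <| subsingleton_of_forall_eq 0 fun z => by
      obtain ⟨U, hyU, σ, rfl⟩ := TopCat.Presheaf.exists_germ_eq F.presheaf z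
      refine (mono_iff_stalk ι).1 inferInstance y ?_
      have h1 : ι.app U σ = 0 := hE U _ fun hx => by
        haveI : Subsingleton (F.presheaf.stalk (genericPoint X)) := hs
        rw [← stalkLin_germ, Subsingleton.elim (F.presheaf.germ U (genericPoint X) hx σ) 0, map_zero]
      rw [stalkLin_germ, h1, map_zero, map_zero])
  have hu : CohB1.support F = Set.univ := Set.eq_univ_of_univ_subset
    ((genericPoint_spec X).def ▸ (isClosed_support hF).closure_subset_iff.2 (Set.singleton_subset_iff.2 hη))
  rw [hu, (Homeomorph.Set.univ X).isHomeomorph.topologicalKrullDim_eq, hn]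

variable (k : Type u) [Field k] [X.Over (Spec (CommRingCat.of k))]
  [IsProper (X ↘ Spec (CommRingCat.of k))] {L E : X.Modules} {d : ℕ}

theorem isIso_endo (hamp : CohB1.IsAmple L) (hd : 1 ≤ d) (hE : ShStab.IsMuStable k X L E d)
    (hp : ShStab.IsPure X E d) (φ : E ⟶ E) (hφ : φ ≠ 0) : IsIso φ := by
  haveI := EulerIneqLib.isNoetherian_proper (X := X) k
  obtain ⟨hEc, hE0, -, -, hst⟩ := hE
  have hdE := dimLE_of_isPure hEc hp
  obtain ⟨pE, -, hpE⟩ := exists_hp k hamp hEc hdE
  obtain ⟨pI, hpI, hα, hI, hI0⟩ := image_data k hamp hEc hEc hp hφ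
  obtain ⟨pK, hK, e, hKc, hKd⟩ := exists_hp_ker k hamp (Abelian.factorThruImage φ) hEc hI hdE hpE hpI
  have hαe : alpha d pE = alpha d pK + alpha d pI := by rw [e, alpha_add]
  have hKp := isPure_of_mono hp (kernel.ι (Abelian.factorThruImage φ))
  have hK0 : IsZero (kernel (Abelian.factorThruImage φ)) := by
    by_contra h0
    have hαK := alpha_pos_of_isPure k hamp hKc h0 hKp hK
    have h1 := hst _ (kernel.ι (Abelian.factorThruImage φ)) inferInstance hKc pK pE hK hpE hαK (by linarith)
    have h2 := hst _ (Abelian.image.ι φ) inferInstance hI pI pE hpI hpE hα (by linarith)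
    have hsum : alpha (d - 1) pE = alpha (d - 1) pK + alpha (d - 1) pI := by rw [e, alpha_add]
    simp only [hatSlope] at h1 h2
    rw [div_lt_div_iff₀ hαK (by linarith)] at h1
    rw [div_lt_div_iff₀ hα (by linarith)] at h2
    have h3 := congrArg (· * alpha d pE) hsum
    have h4 := congrArg (fun t => alpha (d - 1) pE * t) hαe
    simp only [add_mul, mul_add] at h3 h4
    linarith
  haveI : Mono (Abelian.factorThruImage φ) := Preadditive.mono_of_isZero_kernel _ hK0
  haveI : Mono φ := by
    rw [← Abelian.image.fac φ]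
    infer_instance
  exact isIso_of_hp_eq k hamp φ hEc hEc hdE hpE hpE

theorem exists_eq_mulEnd [IsAlgClosed k] (hamp : CohB1.IsAmple L) (hd : 1 ≤ d)
    (hE : ShStab.IsMuStable k X L E d) (hp : ShStab.IsPure X E d) (φ : E ⟶ E) :
    ∃ c : k, φ = FactorOne.mulEnd E (Coh.toGlobal (X ↘ Spec (CommRingCat.of k)) c) := by
  haveI := EulerIneqLib.isNoetherian_proper (X := X) k
  obtain ⟨x, hx, hxc⟩ := (isClosed_support hE.1).exists_closed_singleton
    (Set.nonempty_iff_ne_empty.2 fun h => hE.2.1 (isZero_of_support_empty h))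
  haveI := hE.1.1
  haveI := PullbackMod.finite_stalk_of_isFT (M := E) hE.1.2 x
  haveI : Nontrivial (E.presheaf.stalk x) := not_subsingleton_iff_nontrivial.1 hx
  obtain ⟨c, hc⟩ := exists_scalar_not_bijective _ (residue_toGlobal_surjective k x hxc) (PullbackMod.stalkLin φ x)
  refine ⟨c, by_contra fun hne => hc ?_⟩
  set g := φ - FactorOne.mulEnd E (Coh.toGlobal (X ↘ Spec (CommRingCat.of k)) c)
  haveI := isIso_endo k hamp hd hE hp g (sub_ne_zero.2 hne)
  have e : PullbackMod.stalkLin g x = PullbackMod.stalkLin φ x -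
      (X.presheaf.germ ⊤ x trivial).hom (Coh.toGlobal (X ↘ Spec (CommRingCat.of k)) c) • LinearMap.id := by
    refine LinearMap.ext fun z => ?_
    obtain ⟨U, hxU, m, rfl⟩ := TopCat.Presheaf.exists_germ_eq E.presheaf z
    rw [LinearMap.sub_apply, LinearMap.smul_apply, LinearMap.id_apply, PullbackMod.stalkLin_germ,
      PullbackMod.stalkLin_germ]
    show E.presheaf.germ U x hxU (φ.app U m - (FactorOne.mulEnd E _).app U m) = _
    rw [map_sub, FactorOne.mulEnd_app, HomLib.germ_smul', TopCat.Presheaf.germ_res_apply]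
  have hb : Function.Bijective (PullbackMod.stalkLin g x) := (isIso_iff_stalk g).1 inferInstance x
  rw [e] at hb
  exact hb

end Groth.Agent.MuSimpleLib
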